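import Groth.Agent.FieldFEt.Quot
import Groth.Prelude.Def_Pi1

/-!
# The homotopy sequence over a field, in functor form
-/

set_option autoImplicit false
set_option linter.style.haveILetI false
set_option backward.isDefEq.respectTransparency false
set_option backward.isDefEq.respectTransparency.types false

universe u

open CategoryTheory CategoryTheory.Limits AlgebraicGeometry

noncomputable section

namespace Groth.Agent.FieldFEt

open Groth.Agent.FEtGal

variable {k : Type u} [Field k] {X : Scheme.{u}} (f : X ⟶ Spec (CommRingCat.of k))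

theorem connectedSpace_base [ConnectedSpace (pullback f (sk k (AlgebraicClosure k)) : Scheme.{u})] :
    ConnectedSpace X := by
  haveI : Surjective (sk k (AlgebraicClosure k)) :=
    ⟨fun p => ⟨(IsLocalRing.closedPoint (AlgebraicClosure k) : PrimeSpectrum (AlgebraicClosure k)),
      Subsingleton.elim (α := PrimeSpectrum k) _ _⟩⟩
  exact (pullback.fst f (sk k (AlgebraicClosure k))).surjective.connectedSpace
    (pullback.fst f (sk k (AlgebraicClosure k))).continuous

/-- the cover given by a finite separable extension -/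
def skObj (L : IntermediateField k (SeparableClosure k)) [FiniteDimensional k L] : FEt.Cat (Spec (CommRingCat.of k)) :=
  MorphismProperty.Over.mk ⊤ (sk k L)
    ⟨(IsFinite.SpecMap_iff _).2 (RingHom.finite_algebraMap.2 inferInstance),
      (HasRingHomProperty.Spec_iff (P := @Etale)).2 (RingHom.etale_algebraMap.2 (by
        haveI : Algebra.FormallyEtale k L := Algebra.FormallyEtale.of_isSeparable k L
        haveI : Algebra.FinitePresentation k L := Algebra.FinitePresentation.of_finiteType.1 inferInstance
        exact { }))⟩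

/-- a section over an extension as a morphism of covers -/
def skHom {U : FEt.Cat X} {L : IntermediateField k (SeparableClosure k)} [FiniteDimensional k L]
    (σL : pullback f (sk k L) ⟶ U.left) (h : σL ≫ str U = pullback.fst _ _) :
    (FEt.restrict f).obj (skObj L) ⟶ U :=
  MorphismProperty.Over.homMk ((pullbackSymmetry (sk k L) f).hom ≫ σL) (by
    rw [Category.assoc, show σL ≫ U.hom = pullback.fst _ _ from h]
    exact pullbackSymmetry_hom_comp_fst _ _)

variable [CompactSpace X] [QuasiSeparatedSpace X]

/-- **injectivity of the fundamental group of the geometric fibre** -/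
theorem exists_openClosed_in_baseChange (V : FEt.Cat (pullback f (sk k (AlgebraicClosure k)))) :
    ∃ (U : FEt.Cat X) (ι : V ⟶ (FEt.restrict (pullback.fst f (sk k (AlgebraicClosure k)))).obj U),
      IsOpenImmersion ι.left ∧ IsClosedImmersion ι.left := by
  obtain ⟨L, hL, VL, q, sq⟩ := exists_sep_stage f V
  let U : FEt.Cat X := MorphismProperty.Over.mk ⊤ (str VL ≫ pullback.fst f (sk k L))
    (MorphismProperty.comp_mem _ _ _ VL.prop (prop_fst f L))
  let il : V.left ⟶ pullback (str U) (pullback.fst f (sk k (AlgebraicClosure k))) :=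
    pullback.lift q (str V) (by
      show q ≫ str VL ≫ pullback.fst f (sk k L) = _
      rw [reassoc_of% sq.w, bcm_fst])
  have h₁ : il ≫ pullback.fst (str U) _ = q := pullback.lift_fst _ _ _
  have h₂ : il ≫ pullback.snd (str U) _ = str V := pullback.lift_snd _ _ _
  haveI : Mono il := ⟨fun {T} a b h => sq.hom_ext (by rw [← h₁, reassoc_of% h]) (by rw [← h₂, reassoc_of% h])⟩
  let ι : V ⟶ (FEt.restrict (pullback.fst f (sk k (AlgebraicClosure k)))).obj U := MorphismProperty.Over.homMk il h₂
  haveI : IsFinite il := (prop_left ι).1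
  haveI : Etale il := (prop_left ι).2
  exact ⟨U, ι, IsOpenImmersion.of_flat_of_mono il, (IsClosedImmersion.iff_isFinite_and_mono il).2 ⟨inferInstance, inferInstance⟩⟩

/-- **a cover split over the algebraic closure is dominated by a cover of the field** -/
theorem exists_surjective_of_isSplit (U : FEt.Cat X)
    (hU : Pi1.IsSplit ((FEt.restrict (pullback.fst f (sk k (AlgebraicClosure k)))).obj U)) :
    ∃ (V : FEt.Cat (Spec (CommRingCat.of k))) (e : (FEt.restrict f).obj V ⟶ U), Surjective e.left := by
  obtain ⟨ι, _, e, he⟩ := hU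
  let σ : ι → (pullback f (sk k (AlgebraicClosure k)) ⟶ U.left) := fun i =>
    Sigma.ι (fun _ : ι => pullback f (sk k (AlgebraicClosure k))) i ≫ e.inv ≫ pullback.fst (str U) _
  have hσ : ∀ i, σ i ≫ str U = pullback.fst _ _ := fun i => by
    have := he i
    simp only [σ, Category.assoc, pullback.condition]
    exact (Category.assoc _ _ _).symm.trans ((Category.assoc _ _ _).symm.trans ((congrArg (· ≫ pullback.fst f _)
      ((Category.assoc _ _ _).trans this)).trans (Category.id_comp _)))
  choose L hL σL h₁ h₂ using fun i => exists_sep_section f U (σ i) (hσ i)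
  haveI := hL
  haveI : PreservesColimitsOfShape (Discrete ι) (FEt.restrict f) :=
    preservesColimitsOfShape_of_equiv (Discrete.equivalence (Finite.equivFin ι)).symm _
  let g : ι → FEt.Cat (Spec (CommRingCat.of k)) := fun i => skObj (L i)
  let hc := isColimitOfHasCoproductOfPreservesColimit (FEt.restrict f) g
  let es : ∀ i, (FEt.restrict f).obj (g i) ⟶ U := fun i => skHom f (σL i) (h₂ i)
  let E : (FEt.restrict f).obj (∐ g) ⟶ U := hc.desc (Cofan.mk U es)
  have hE : ∀ i, (FEt.restrict f).map (Sigma.ι g i) ≫ E = es i := fun i => hc.fac (Cofan.mk U es) ⟨i⟩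
  refine ⟨∐ g, E, ⟨fun u => ?_⟩⟩
  obtain ⟨p, hp, -⟩ : ∃ p : (pullback f (sk k (AlgebraicClosure k)) : Scheme.{u}),
      pullback.fst f (sk k (AlgebraicClosure k)) p = str U u ∧ True := by
    haveI : Surjective (sk k (AlgebraicClosure k)) :=
      ⟨fun p => ⟨(IsLocalRing.closedPoint (AlgebraicClosure k) : PrimeSpectrum (AlgebraicClosure k)),
        Subsingleton.elim (α := PrimeSpectrum k) _ _⟩⟩
    exact ⟨_, ((pullback.fst f (sk k (AlgebraicClosure k))).surjective (str U u)).choose_spec, trivial⟩
  obtain ⟨z, hz, -⟩ := Scheme.Pullback.exists_preimage_pullback (f := str U)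
    (g := pullback.fst f (sk k (AlgebraicClosure k))) u p hp.symm
  obtain ⟨i, x, hx⟩ := (sigmaOpenCover fun _ : ι => pullback f (sk k (AlgebraicClosure k))).exists_eq (e.hom z)
  refine ⟨((FEt.restrict f).map (Sigma.ι g i)).left
    ((pullbackSymmetry (sk k (L i)) f).inv (bcm f ((sepEmb k).comp (L i).val) x)), ?_⟩
  rw [← Scheme.Hom.comp_apply, show ((FEt.restrict f).map (Sigma.ι g i)).left ≫ E.left = (es i).left from
    congrArg (fun a : (FEt.restrict f).obj (g i) ⟶ U => a.left) (hE i)]
  show ((pullbackSymmetry (sk k (L i)) f).hom ≫ σL i) _ = u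
  rw [← Scheme.Hom.comp_apply, ← Scheme.Hom.comp_apply, Iso.inv_hom_id_assoc, h₁ i]
  have hx' : Sigma.ι (fun _ : ι => pullback f (sk k (AlgebraicClosure k))) i x = e.hom z := hx
  show (Sigma.ι (fun _ : ι => pullback f (sk k (AlgebraicClosure k))) i ≫ e.inv ≫ pullback.fst (str U) _) x = u
  rw [Scheme.Hom.comp_apply, hx', ← Scheme.Hom.comp_apply, Iso.hom_inv_id_assoc]
  exact hz

/-- **a connected cover with a section over the algebraic closure comes from the field** -/
theorem exists_iso_of_section [ConnectedSpace (pullback f (sk k (AlgebraicClosure k)) : Scheme.{u})]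
    (X' : FEt.Cat X) [ConnectedSpace X'.left] (σ : pullback f (sk k (AlgebraicClosure k)) ⟶ X'.left)
    (hσ : σ ≫ str X' = pullback.fst _ _) :
    ∃ S' : FEt.Cat (Spec (CommRingCat.of k)), Nonempty ((FEt.restrict f).obj S' ≅ X') := by
  haveI := connectedSpace_base f
  obtain ⟨L, hL, σL, h₁, h₂⟩ := exists_sep_section f X' σ hσ
  let π := skHom f σL h₂
  haveI : IsFinite π.left := (prop_left π).1
  haveI : Etale π.left := (prop_left π).2
  haveI : Surjective π.left := ⟨Set.range_eq_univ.1 ((isClopen_iff.1
    ⟨π.left.isClosedMap.isClosed_range, π.left.isOpenMap.isOpen_range⟩).resolve_left (Set.Nonempty.ne_empty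
      ⟨_, Set.mem_range_self ((pullbackSymmetry (sk k L) f).inv
        (bcm f ((sepEmb k).comp L.val) (Classical.arbitrary _)))⟩))⟩
  exact exists_iso_of_surjective f (skObj L) π

end Groth.Agent.FieldFEt
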