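import Groth.Agent.FieldFEt.Stage
import Groth.Agent.S0289
import Mathlib.FieldTheory.IsSepClosed
import Mathlib.FieldTheory.PurelyInseparable.Tower

/-!
# Descent from an algebraic closure to a finite separable extension
-/

set_option autoImplicit false
set_option linter.style.haveILetI false
set_option backward.isDefEq.respectTransparency false
set_option backward.isDefEq.respectTransparency.types false

universe u

open CategoryTheory CategoryTheory.Limits AlgebraicGeometry

noncomputable section

namespace Groth.Agent.FieldFEt

open Groth.Agent.FEtGal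

theorem universallyInjective_specMap (K L : Type u) [Field K] [Field L] [Algebra K L] [IsPurelyInseparable K L] :
    UniversallyInjective (Spec.map (CommRingCat.ofHom (algebraMap K L))) := by
  rw [(tfae_universallyInjective _).out 0 1 rfl rfl]
  intro F _ g₁ g₂ hg
  obtain ⟨α, rfl⟩ := Spec.map_surjective g₁
  obtain ⟨β, rfl⟩ := Spec.map_surjective g₂
  simp only [← Spec.map_comp] at hg
  have hg' : α.hom.comp (algebraMap K L) = β.hom.comp (algebraMap K L) :=
    congrArg CommRingCat.Hom.hom (Spec.map_injective hg)
  obtain ⟨q, hq⟩ := ExpChar.exists K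
  haveI : ExpChar L q := expChar_of_injective_ringHom (algebraMap K L).injective q
  haveI : ExpChar F q := expChar_of_injective_ringHom (α.hom.comp (algebraMap K L)).injective q
  refine congrArg Spec.map (CommRingCat.hom_ext (RingHom.ext fun x => ?_))
  obtain ⟨n, y, hy⟩ := IsPurelyInseparable.pow_mem K q x
  refine iterateFrobenius_inj F q n ?_
  simp only [iterateFrobenius_def, ← map_pow, ← hy]
  exact DFunLike.congr_fun hg' y

theorem isIntegralHom_specMap (K L : Type u) [Field K] [Field L] [Algebra K L] [Algebra.IsAlgebraic K L] :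
    IsIntegralHom (Spec.map (CommRingCat.ofHom (algebraMap K L))) :=
  (IsIntegralHom.SpecMap_iff).2 (algebraMap_isIntegral_iff.2 inferInstance)

variable {k : Type u} [Field k] {X : Scheme.{u}} (f : X ⟶ Spec (CommRingCat.of k))

theorem bcm_comp {K L M : Type u} [Field K] [Field L] [Field M] [Algebra k K] [Algebra k L] [Algebra k M]
    (φ : L →ₐ[k] K) (ψ : M →ₐ[k] L) : bcm f φ ≫ bcm f ψ = bcm f (φ.comp ψ) := by
  apply pullback.hom_ext
  · rw [Category.assoc, bcm_fst, bcm_fst, bcm_fst]
  · rw [Category.assoc, bcm_snd, bcm_snd_assoc, bcm_snd, ← Spec.map_comp]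
    rfl

variable (k) in
/-- the embedding of the separable closure into the algebraic closure -/
abbrev sepEmb : SeparableClosure k →ₐ[k] AlgebraicClosure k :=
  (separableClosure k (AlgebraicClosure k)).val

theorem skMap_sepEmb_props : IsIntegralHom (skMap (sepEmb k)) ∧ UniversallyInjective (skMap (sepEmb k)) := by
  haveI : Algebra.IsAlgebraic (SeparableClosure k) (AlgebraicClosure k) :=
    Algebra.IsAlgebraic.tower_top (K := k) (L := SeparableClosure k) (A := AlgebraicClosure k)
  exact ⟨isIntegralHom_specMap (SeparableClosure k) (AlgebraicClosure k),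
    universallyInjective_specMap (SeparableClosure k) (AlgebraicClosure k)⟩

/-- **covers over the separable and the algebraic closure agree** -/
theorem isEquivalence_restrict_sepEmb : (FEt.restrict (bcm f (sepEmb k))).IsEquivalence := by
  obtain ⟨h₁, h₂⟩ := skMap_sepEmb_props (k := k)
  have sq := (isPullback_bcm f (sepEmb k)).flip
  haveI : IsIntegralHom (bcm f (sepEmb k)) := MorphismProperty.of_isPullback (P := @IsIntegralHom) sq h₁
  haveI : UniversallyInjective (bcm f (sepEmb k)) := MorphismProperty.of_isPullback (P := @UniversallyInjective) sq h₂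
  haveI : Surjective (bcm f (sepEmb k)) := surjective_bcm f _
  exact Groth.Agent.S0289.result _

/-- cartesian squares from isomorphisms with restrictions -/
theorem isPullback_of_iso {A B : Scheme.{u}} {g : A ⟶ B} {E : FEt.Cat B} {E' : FEt.Cat A}
    (e : (FEt.restrict g).obj E ≅ E') :
    IsPullback (e.inv.left ≫ pullback.fst (str E) g) (str E') (str E) g := by
  haveI := isIso_left e.inv
  exact (IsPullback.of_hasPullback (str E) g).of_iso (asIso e.inv.left).symm (Iso.refl _) (Iso.refl _) (Iso.refl _)
    (by simp) (by
      rw [Iso.refl_hom, Category.comp_id, Iso.symm_hom, asIso_inv, IsIso.eq_inv_comp]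
      exact MorphismProperty.Over.w e.inv) (by simp) (by simp)

variable [CompactSpace X] [QuasiSeparatedSpace X]

/-- **covers over the algebraic closure come from finite separable extensions** -/
theorem exists_sep_stage (V : FEt.Cat (pullback f (sk k (AlgebraicClosure k)))) :
    ∃ (L : IntermediateField k (SeparableClosure k)) (_ : FiniteDimensional k L)
      (VL : FEt.Cat (pullback f (sk k L))) (q : V.left ⟶ VL.left),
      IsPullback q (str V) (str VL) (bcm f ((sepEmb k).comp L.val)) := by
  haveI := isEquivalence_restrict_sepEmb f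
  obtain ⟨L, hL, VL, ⟨e⟩⟩ := exists_stage (K := SeparableClosure k) f
    ((FEt.restrict (bcm f (sepEmb k))).objPreimage V)
  have sq := (isPullback_of_iso ((FEt.restrict (bcm f (sepEmb k))).objObjPreimageIso V)).paste_horiz
    (isPullback_of_iso e)
  rw [bcm_comp] at sq
  exact ⟨L, hL, VL, _, sq⟩

/-- the trivial cover -/
abbrev oneObj (Y : Scheme.{u}) : FEt.Cat Y := MorphismProperty.Over.mk ⊤ (𝟙 Y) ⟨inferInstance, inferInstance⟩

/-- **sections over the algebraic closure come from finite separable extensions** -/
theorem exists_sep_section (U : FEt.Cat X) (σ : pullback f (sk k (AlgebraicClosure k)) ⟶ U.left)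
    (hσ : σ ≫ str U = pullback.fst _ _) :
    ∃ (L : IntermediateField k (SeparableClosure k)) (_ : FiniteDimensional k L)
      (σL : pullback f (sk k L) ⟶ U.left),
      bcm f ((sepEmb k).comp L.val) ≫ σL = σ ∧ σL ≫ str U = pullback.fst _ _ := by
  haveI := isEquivalence_restrict_sepEmb f
  let b := bcm f (sepEmb k)
  let Us := (FEt.restrict (pullback.fst f (sk k (SeparableClosure k)))).obj U
  let one := oneObj (pullback f (sk k (SeparableClosure k)))
  have hc : pullback.fst (str one) b = pullback.snd (str one) b ≫ b :=
    (Category.comp_id _).symm.trans pullback.condition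
  let ψ : (FEt.restrict b).obj one ⟶ (FEt.restrict b).obj Us :=
    MorphismProperty.Over.homMk (pullback.lift (pullback.lift (pullback.snd (str one) b ≫ σ)
      (pullback.fst (str one) b) (by
        rw [Category.assoc, show σ ≫ U.hom = pullback.fst f _ from hσ, hc, Category.assoc]
        exact (congrArg (_ ≫ ·) (bcm_fst f (sepEmb k))).symm))
      (pullback.snd (str one) b) (by
        exact (pullback.lift_snd _ _ _).trans hc))
      (pullback.lift_snd _ _ _)
  obtain ⟨φ, hφ⟩ := (FEt.restrict b).map_surjective ψ
  let σs : pullback f (sk k (SeparableClosure k)) ⟶ U.left := φ.left ≫ pullback.fst (str U) _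
  have hw : φ.left ≫ str Us = 𝟙 _ := MorphismProperty.Over.w φ
  have hσs : σs ≫ str U = pullback.fst _ _ := by
    refine (Category.assoc _ _ _).trans ((congrArg (φ.left ≫ ·) pullback.condition).trans ?_)
    exact (Category.assoc _ _ _).symm.trans ((congrArg (· ≫ pullback.fst f _) hw).trans (Category.id_comp _))
  have hb : b ≫ σs = σ := by
    let j : pullback f (sk k (AlgebraicClosure k)) ⟶ ((FEt.restrict b).obj one).left :=
      pullback.lift b (𝟙 _) ((Category.comp_id _).trans (Category.id_comp _).symm)
    have hj₁ : j ≫ pullback.fst (str one) b = b := pullback.lift_fst _ _ _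
    have hj₂ : j ≫ pullback.snd (str one) b = 𝟙 _ := pullback.lift_snd _ _ _
    have sq : ((FEt.restrict b).map φ).left ≫ pullback.fst (str Us) b = pullback.fst (str one) b ≫ φ.left :=
      (isPullback_restrict_map b φ).w
    rw [hφ] at sq
    rw [← hj₁, Category.assoc, ← reassoc_of% sq]
    show j ≫ pullback.lift _ _ _ ≫ pullback.fst (str Us) b ≫ pullback.fst (str U) _ = σ
    rw [pullback.lift_fst_assoc, pullback.lift_fst, reassoc_of% hj₂]
  haveI : LocallyOfFinitePresentation (str U) := inferInstance
  obtain ⟨L, hL, σL, h₁, h₂⟩ := exists_stage_section (K := SeparableClosure k) f (str U) σs hσs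
  exact ⟨L, hL, σL, by rw [← bcm_comp, Category.assoc, h₁, hb], h₂⟩

instance (L : IntermediateField k (SeparableClosure k)) : Algebra.IsSeparable k L :=
  Algebra.isSeparable_tower_bot_of_isSeparable k L (SeparableClosure k)

end Groth.Agent.FieldFEt
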