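import Groth.Agent.FieldFEt.Sep
import Groth.Agent.FEtGal.Galois
import Groth.Agent.PiSpDesc.Basic

/-!
# Quotients of pulled back covers over a geometrically connected scheme over a field
-/

set_option autoImplicit false
set_option linter.style.haveILetI false
set_option backward.isDefEq.respectTransparency false
set_option backward.isDefEq.respectTransparency.types false

universe u

open CategoryTheory CategoryTheory.Limits AlgebraicGeometry

noncomputable section

namespace Groth.Agent.FieldFEt

open Groth.Agent.FEtGal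

variable {k : Type u} [Field k] {X : Scheme.{u}} (f : X ⟶ Spec (CommRingCat.of k))
  [ConnectedSpace (pullback f (sk k (AlgebraicClosure k)) : Scheme.{u})]

omit [ConnectedSpace (pullback f (sk k (AlgebraicClosure k)) : Scheme.{u})] in
theorem discreteTopology_cover (W : FEt.Cat (Spec (CommRingCat.of k))) : DiscreteTopology W.left :=
  haveI : IsLocallyArtinian (Spec (CommRingCat.of k)) := inferInstance
  haveI : LocallyQuasiFinite (str W) := inferInstance
  haveI : IsLocallyArtinian W.left := IsLocallyArtinian.of_locallyQuasiFinite (str W)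
  inferInstance

omit [ConnectedSpace (pullback f (sk k (AlgebraicClosure k)) : Scheme.{u})] in
theorem exists_point_through (W : FEt.Cat (Spec (CommRingCat.of k))) (w : W.left) :
    ∃ η : Spec (CommRingCat.of (AlgebraicClosure k)) ⟶ W.left,
      η ≫ str W = sk k (AlgebraicClosure k) ∧ η (pt₀ _) = w := by
  let W' := (FEt.restrict (sk k (AlgebraicClosure k))).obj W
  haveI := discreteTopology_cover W'
  obtain ⟨z, hz, -⟩ := Scheme.Pullback.exists_preimage_pullback (f := str W) (g := sk k (AlgebraicClosure k))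
    w (pt₀ _) (Subsingleton.elim (α := PrimeSpectrum k) _ _)
  let V : W'.left.Opens := ⟨{z}, isOpen_discrete _⟩
  haveI : Nonempty (PiSpDesc.sub W' V (isClosed_discrete _)).left := ⟨(⟨z, rfl⟩ : V.toScheme)⟩
  obtain ⟨s⟩ := exists_point_of_nonempty (PiSpDesc.sub W' V (isClosed_discrete _))
  refine ⟨(pointsRestrict _ W (fmap _ (PiSpDesc.subHom W' V (isClosed_discrete _)) s)).1,
    (pointsRestrict _ W _).2, ?_⟩
  have hm := point_mem_range _ (PiSpDesc.subHom W' V (isClosed_discrete _)) s
  rw [PiSpDesc.range_subHom] at hm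
  show ((fmap _ (PiSpDesc.subHom W' V (isClosed_discrete _)) s).1 ≫ pullback.fst (str W) _) (pt₀ _) = w
  rw [Scheme.Hom.comp_apply, show (fmap _ (PiSpDesc.subHom W' V (isClosed_discrete _)) s).1 (pt₀ _) = z from hm]
  exact hz

/-- **clopen parts of a pulled back cover come from the ground field** -/
theorem clopen_eq_preimage (W : FEt.Cat (Spec (CommRingCat.of k)))
    (C : Set ((FEt.restrict f).obj W).left) (hC : IsClopen C) :
    C = pullback.fst (str W) f ⁻¹' (pullback.fst (str W) f '' C) := by
  refine Set.Subset.antisymm (Set.subset_preimage_image _ _) ?_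
  rintro z₂ ⟨z₁, hz₁, he⟩
  obtain ⟨η, hη, hηw⟩ := exists_point_through W (pullback.fst (str W) f z₁)
  let m : pullback f (sk k (AlgebraicClosure k)) ⟶ pullback (str W) f :=
    pullback.lift (pullback.snd _ _ ≫ η) (pullback.fst _ _) (by rw [Category.assoc, hη, pullback.condition])
  have hm₁ : m ≫ pullback.fst (str W) f = pullback.snd f (sk k (AlgebraicClosure k)) ≫ η := pullback.lift_fst _ _ _
  have hm₂ : m ≫ pullback.snd (str W) f = pullback.fst f (sk k (AlgebraicClosure k)) := pullback.lift_snd _ _ _
  have sq : IsPullback (pullback.snd f (sk k (AlgebraicClosure k))) m η (pullback.fst (str W) f) := by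
    refine IsPullback.of_bot ?_ hm₁.symm (IsPullback.of_hasPullback (str W) f)
    rw [hm₂, hη]
    exact (IsPullback.of_hasPullback f (sk k (AlgebraicClosure k))).flip
  have hr : ∀ z, pullback.fst (str W) f z = pullback.fst (str W) f z₁ → z ∈ Set.range m := fun z hz => by
    obtain ⟨p, -, hp⟩ := Scheme.Pullback.exists_preimage_pullback (f := η) (g := pullback.fst (str W) f)
      (pt₀ _) z (hηw.trans hz.symm)
    exact ⟨sq.isoPullback.inv p, by rw [← Scheme.Hom.comp_apply, sq.isoPullback_inv_snd]; exact hp⟩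
  obtain ⟨p₁, hp₁⟩ := hr z₁ rfl
  obtain ⟨p₂, hp₂⟩ := hr z₂ he.symm
  have hu : m ⁻¹' C = Set.univ := (isClopen_iff.1 (hC.preimage m.continuous)).resolve_left
    (Set.Nonempty.ne_empty ⟨p₁, by show m p₁ ∈ C; rw [hp₁]; exact hz₁⟩)
  have : m p₂ ∈ C := (Set.ext_iff.1 hu p₂).2 trivial
  rwa [hp₂] at this

theorem mono_of_mono_left {Y Z : FEt.Cat X} (a : Y ⟶ Z) [Mono a.left] : Mono a :=
  (MorphismProperty.Over.forget _ ⊤ X ⋙ CategoryTheory.Over.forget X).mono_of_mono_map
    (inferInstanceAs (Mono a.left))

omit [ConnectedSpace (pullback f (sk k (AlgebraicClosure k)) : Scheme.{u})] in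
theorem surjective_fmap {Y Z : FEt.Cat X} (π : Y ⟶ Z) [Surjective π.left] {Ω : Type u} [Field Ω] [IsAlgClosed Ω]
    (ξ : Spec (CommRingCat.of Ω) ⟶ X) : Function.Surjective (fmap ξ π) := fun t => by
  let P : FEt.Cat (Spec (CommRingCat.of Ω)) := MorphismProperty.Over.mk ⊤ (pullback.snd π.left t.1)
    (MorphismProperty.pullback_snd _ _ (prop_left π))
  obtain ⟨p, -, -⟩ := Scheme.Pullback.exists_preimage_pullback (f := π.left) (g := t.1)
    (π.left.surjective (t.1 (pt₀ Ω))).choose (pt₀ Ω) (π.left.surjective (t.1 (pt₀ Ω))).choose_spec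
  haveI : Nonempty P.left := ⟨p⟩
  obtain ⟨s⟩ := exists_point_of_nonempty P
  have hs : s.1 ≫ pullback.snd π.left t.1 = 𝟙 _ := s.2
  have e : (s.1 ≫ pullback.fst π.left t.1) ≫ π.left = t.1 := by
    rw [Category.assoc, pullback.condition, reassoc_of% hs]
  refine ⟨⟨s.1 ≫ pullback.fst π.left t.1, ?_⟩, Subtype.ext e⟩
  show _ ≫ str Y = ξ
  rw [show str Y = π.left ≫ str Z from (MorphismProperty.Over.w π).symm, ← Category.assoc, e]
  exact t.2

/-- **a quotient of a pulled back cover is pulled back** -/
theorem exists_iso_of_surjective [ConnectedSpace X] (W : FEt.Cat (Spec (CommRingCat.of k))) {X' : FEt.Cat X}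
    (π : (FEt.restrict f).obj W ⟶ X') [Surjective π.left] :
    ∃ S' : FEt.Cat (Spec (CommRingCat.of k)), Nonempty ((FEt.restrict f).obj S' ≅ X') := by
  let F := (FEt.restrict f).obj W
  -- the relation
  let R : FEt.Cat X := MorphismProperty.Over.mk ⊤ (pullback.fst π.left π.left ≫ str F)
    (MorphismProperty.comp_mem _ _ _ (MorphismProperty.pullback_fst _ _ (prop_left π)) F.prop)
  let r₁ : R ⟶ F := MorphismProperty.Over.homMk (pullback.fst π.left π.left) rfl
  let r₂ : R ⟶ F := MorphismProperty.Over.homMk (pullback.snd π.left π.left) (by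
    show pullback.snd π.left π.left ≫ str F = pullback.fst π.left π.left ≫ str F
    rw [show str F = π.left ≫ str X' from (MorphismProperty.Over.w π).symm, pullback.condition_assoc])
  -- pairs over the field
  let W₂ : FEt.Cat (Spec (CommRingCat.of k)) := MorphismProperty.Over.mk ⊤
    (pullback.fst (str W) (str W) ≫ str W) (PiSpDesc.prop_pair W W)
  let p₁ : W₂ ⟶ W := MorphismProperty.Over.homMk (pullback.fst (str W) (str W)) rfl
  let p₂ : W₂ ⟶ W := MorphismProperty.Over.homMk (pullback.snd (str W) (str W)) pullback.condition.symm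
  let jl : R.left ⟶ pullback (str W₂) f :=
    pullback.lift (pullback.lift (r₁.left ≫ pullback.fst (str W) f) (r₂.left ≫ pullback.fst (str W) f) (by
      rw [Category.assoc, Category.assoc, pullback.condition, ← Category.assoc, ← Category.assoc]
      exact congrArg (· ≫ f) ((MorphismProperty.Over.w r₁).trans (MorphismProperty.Over.w r₂).symm)))
      (str R) (by
        show _ ≫ pullback.fst (str W) (str W) ≫ str W = _
        rw [pullback.lift_fst_assoc, Category.assoc, pullback.condition, ← Category.assoc]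
        exact congrArg (· ≫ f) (MorphismProperty.Over.w r₁))
  let j : R ⟶ (FEt.restrict f).obj W₂ := MorphismProperty.Over.homMk jl (pullback.lift_snd _ _ _)
  have hj₁ : j ≫ (FEt.restrict f).map p₁ = r₁ := by
    apply hom_ext_left
    apply pullback.hom_ext
    · refine (Category.assoc _ _ _).trans ((congrArg (jl ≫ ·) (isPullback_restrict_map f p₁).w).trans ?_)
      exact (pullback.lift_fst_assoc _ _ _ _).trans (pullback.lift_fst _ _ _)
    · exact (MorphismProperty.Over.w (j ≫ (FEt.restrict f).map p₁)).trans (MorphismProperty.Over.w r₁).symm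
  have hj₂ : j ≫ (FEt.restrict f).map p₂ = r₂ := by
    apply hom_ext_left
    apply pullback.hom_ext
    · refine (Category.assoc _ _ _).trans ((congrArg (jl ≫ ·) (isPullback_restrict_map f p₂).w).trans ?_)
      exact (pullback.lift_fst_assoc _ _ _ _).trans (pullback.lift_snd _ _ _)
    · exact (MorphismProperty.Over.w (j ≫ (FEt.restrict f).map p₂)).trans (MorphismProperty.Over.w r₂).symm
  haveI : Mono j.left := ⟨fun {T} a b h => by
    have h₁ : a ≫ r₁.left = b ≫ r₁.left := by
      rw [← hj₁]
      exact (Category.assoc _ _ _).symm.trans ((congrArg (· ≫ _) h).trans (Category.assoc _ _ _))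
    have h₂ : a ≫ r₂.left = b ≫ r₂.left := by
      rw [← hj₂]
      exact (Category.assoc _ _ _).symm.trans ((congrArg (· ≫ _) h).trans (Category.assoc _ _ _))
    exact pullback.hom_ext h₁ h₂⟩
  haveI : Mono j := mono_of_mono_left j
  haveI : IsOpenImmersion j.left := (mono_complement j).1
  haveI : IsFinite j.left := (prop_left j).1
  haveI := discreteTopology_cover W₂
  let B : W₂.left.Opens := ⟨pullback.fst (str W₂) f '' Set.range j.left, isOpen_discrete _⟩
  let i₀ := PiSpDesc.subHom W₂ B (isClosed_discrete _)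
  have hrange : Set.range ((FEt.restrict f).map i₀).left = Set.range j.left := by
    rw [range_restrict_map, PiSpDesc.range_subHom]
    exact (clopen_eq_preimage f W₂ _ ⟨j.left.isClosedMap.isClosed_range, j.left.isOpenEmbedding.isOpen_range⟩).symm
  let R₀ := PiSpDesc.sub W₂ B (isClosed_discrete _)
  let θ : ((FEt.restrict f).obj R₀).left ≅ R.left :=
    IsOpenImmersion.isoOfRangeEq ((FEt.restrict f).map i₀).left j.left hrange
  have hθ : θ.hom ≫ j.left = ((FEt.restrict f).map i₀).left := IsOpenImmersion.isoOfRangeEq_hom_fac _ _ _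
  let θ' : (FEt.restrict f).obj R₀ ⟶ R := MorphismProperty.Over.homMk θ.hom (by
    rw [show R.hom = j.left ≫ str ((FEt.restrict f).obj W₂) from (MorphismProperty.Over.w j).symm, ← Category.assoc, hθ]
    exact MorphismProperty.Over.w ((FEt.restrict f).map i₀))
  haveI : IsIso θ' := isIso_of_isIso_left θ' (inferInstanceAs (IsIso θ.hom))
  have hθ' : θ' ≫ j = (FEt.restrict f).map i₀ := hom_ext_left hθ
  -- the quotient
  let a := i₀ ≫ p₁
  let b := i₀ ≫ p₂
  have ha : (FEt.restrict f).map a = θ' ≫ r₁ := by rw [Functor.map_comp, ← hθ', Category.assoc, hj₁]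
  have hb : (FEt.restrict f).map b = θ' ≫ r₂ := by rw [Functor.map_comp, ← hθ', Category.assoc, hj₂]
  have hπ : (FEt.restrict f).map a ≫ π = (FEt.restrict f).map b ≫ π := by
    rw [ha, hb, Category.assoc, Category.assoc]
    exact congrArg (θ' ≫ ·) (hom_ext_left pullback.condition)
  let hc := isColimitOfHasCoequalizerOfPreservesColimit (FEt.restrict f) a b
  let h : (FEt.restrict f).obj (coequalizer a b) ⟶ X' := hc.desc (Cofork.ofπ π hπ)
  have hqh : (FEt.restrict f).map (coequalizer.π a b) ≫ h = π := hc.fac (Cofork.ofπ π hπ) WalkingParallelPair.one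
  let x₀ := Classical.arbitrary X
  let ξ : Spec (CommRingCat.of (AlgebraicClosure (X.residueField x₀))) ⟶ X :=
    Spec.map (CommRingCat.ofHom (algebraMap (X.residueField x₀) (AlgebraicClosure (X.residueField x₀)))) ≫
      X.fromSpecResidueField x₀
  have hbij : Function.Bijective (fmap ξ h) := by
    let G := FEt.fiber ξ
    haveI : Epi (G.map ((FEt.restrict f).map (coequalizer.π a b))) := inferInstance
    have hs : Function.Surjective (fmap ξ ((FEt.restrict f).map (coequalizer.π a b))) :=
      (epi_iff_surjective (G.map ((FEt.restrict f).map (coequalizer.π a b)))).1 inferInstance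
    have hcomp : ∀ s, fmap ξ h (fmap ξ ((FEt.restrict f).map (coequalizer.π a b)) s) = fmap ξ π s := fun s =>
      Subtype.ext ((Category.assoc _ _ _).trans (congrArg (fun z : F ⟶ X' => s.1 ≫ z.left) hqh))
    refine ⟨fun c₁ c₂ hcc => ?_, fun t => ?_⟩
    · obtain ⟨s₁, rfl⟩ := hs c₁
      obtain ⟨s₂, rfl⟩ := hs c₂
      rw [hcomp, hcomp] at hcc
      let r : FEt.fiberObj ξ R := ⟨pullback.lift s₁.1 s₂.1 (congrArg Subtype.val hcc),
        (pullback.lift_fst_assoc _ _ _ _).trans s₁.2⟩
      let r₀ := fmap ξ (inv θ') r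
      have e₀ : r₀.1 ≫ θ'.left = r.1 := (Category.assoc _ _ _).trans
        ((congrArg (fun z : R ⟶ R => r.1 ≫ z.left) (IsIso.inv_hom_id θ')).trans (Category.comp_id _))
      have e₁ : fmap ξ ((FEt.restrict f).map a) r₀ = s₁ := Subtype.ext (by
        show r₀.1 ≫ ((FEt.restrict f).map a).left = s₁.1
        rw [ha]
        exact ((Category.assoc _ _ _).symm.trans (congrArg (· ≫ r₁.left) e₀)).trans (pullback.lift_fst _ _ _))
      have e₂ : fmap ξ ((FEt.restrict f).map b) r₀ = s₂ := Subtype.ext (by
        show r₀.1 ≫ ((FEt.restrict f).map b).left = s₂.1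
        rw [hb]
        exact ((Category.assoc _ _ _).symm.trans (congrArg (· ≫ r₂.left) e₀)).trans (pullback.lift_snd _ _ _))
      rw [← e₁, ← e₂]
      refine Subtype.ext ?_
      show (r₀.1 ≫ ((FEt.restrict f).map a).left) ≫ _ = (r₀.1 ≫ ((FEt.restrict f).map b).left) ≫ _
      rw [Category.assoc, Category.assoc]
      refine congrArg (fun z => r₀.1 ≫ z) ?_
      exact congrArg (fun z : (FEt.restrict f).obj R₀ ⟶ (FEt.restrict f).obj (coequalizer a b) => z.left)
        (((FEt.restrict f).map_comp a _).symm.trans ((congrArg (FEt.restrict f).map (coequalizer.condition a b)).trans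
          ((FEt.restrict f).map_comp b _)))
    · obtain ⟨s, rfl⟩ := surjective_fmap π ξ t
      exact ⟨_, hcomp s⟩
  haveI := isIso_of_bijective_fmap ξ h hbij
  exact ⟨coequalizer a b, ⟨asIso h⟩⟩

end Groth.Agent.FieldFEt
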