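import Groth.Agent.FEtLim.Descend
import Groth.Agent.FEtGal.Coprod
import Mathlib.AlgebraicGeometry.AffineTransitionLimit
import Mathlib.FieldTheory.IntermediateField.Adjoin.Algebra
import Mathlib.FieldTheory.Separable
import Mathlib.RingTheory.Etale.Field

/-!
# Finite étale covers over algebraic field extensions come from finite subextensions
-/

set_option autoImplicit false
set_option linter.style.haveILetI false
set_option backward.isDefEq.respectTransparency false
set_option backward.isDefEq.respectTransparency.types false

universe u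

open CategoryTheory CategoryTheory.Limits AlgebraicGeometry

noncomputable section

namespace Groth.Agent.FieldFEt

open Groth.Agent.FEtGal

variable (k : Type u) [Field k]

/-- the spectrum of an extension over the ground field -/
abbrev sk (K : Type u) [Field K] [Algebra k K] : Spec (CommRingCat.of K) ⟶ Spec (CommRingCat.of k) :=
  Spec.map (CommRingCat.ofHom (algebraMap k K))

variable {k}

/-- the map of spectra of an algebra map -/
abbrev skMap {K L : Type u} [Field K] [Field L] [Algebra k K] [Algebra k L] (φ : L →ₐ[k] K) :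
    Spec (CommRingCat.of K) ⟶ Spec (CommRingCat.of L) :=
  Spec.map (CommRingCat.ofHom φ.toRingHom)

theorem skMap_sk {K L : Type u} [Field K] [Field L] [Algebra k K] [Algebra k L] (φ : L →ₐ[k] K) :
    skMap φ ≫ sk k L = sk k K := by
  rw [← Spec.map_comp]
  exact congrArg Spec.map (CommRingCat.hom_ext φ.comp_algebraMap)

variable {X : Scheme.{u}} (f : X ⟶ Spec (CommRingCat.of k))

/-- the map of base changes of an algebra map -/
def bcm {K L : Type u} [Field K] [Field L] [Algebra k K] [Algebra k L] (φ : L →ₐ[k] K) :
    pullback f (sk k K) ⟶ pullback f (sk k L) :=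
  pullback.lift (pullback.fst _ _) (pullback.snd _ _ ≫ skMap φ)
    (by rw [Category.assoc, skMap_sk]; exact pullback.condition)

@[reassoc]
theorem bcm_fst {K L : Type u} [Field K] [Field L] [Algebra k K] [Algebra k L] (φ : L →ₐ[k] K) :
    bcm f φ ≫ pullback.fst f (sk k L) = pullback.fst f (sk k K) := pullback.lift_fst _ _ _

@[reassoc]
theorem bcm_snd {K L : Type u} [Field K] [Field L] [Algebra k K] [Algebra k L] (φ : L →ₐ[k] K) :
    bcm f φ ≫ pullback.snd f (sk k L) = pullback.snd f (sk k K) ≫ skMap φ := pullback.lift_snd _ _ _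

theorem isPullback_bcm {K L : Type u} [Field K] [Field L] [Algebra k K] [Algebra k L] (φ : L →ₐ[k] K) :
    IsPullback (bcm f φ) (pullback.snd f (sk k K)) (pullback.snd f (sk k L)) (skMap φ) :=
  IsPullback.of_right (by rw [bcm_fst, skMap_sk]; exact IsPullback.of_hasPullback _ _) (bcm_snd f φ)
    (IsPullback.of_hasPullback _ _)

theorem surjective_bcm {K L : Type u} [Field K] [Field L] [Algebra k K] [Algebra k L] (φ : L →ₐ[k] K) :
    Surjective (bcm f φ) :=
  MorphismProperty.of_isPullback (P := @Surjective) (isPullback_bcm f φ).flip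
    ⟨fun p => ⟨(IsLocalRing.closedPoint K : PrimeSpectrum K), Subsingleton.elim (α := PrimeSpectrum L) _ _⟩⟩

variable (k) (K : Type u) [Field K] [Algebra k K]

/-- the finite subextensions -/
abbrev Sub := {L : IntermediateField k K // FiniteDimensional k L}

instance : IsDirectedOrder (Sub k K) :=
  ⟨fun L M => ⟨⟨L.1 ⊔ M.1, haveI := L.2; haveI := M.2; IntermediateField.finiteDimensional_sup _ _⟩,
    (le_sup_left : L.1 ≤ _), (le_sup_right : M.1 ≤ _)⟩⟩

instance : Nonempty (Sub k K) := ⟨⟨⊥, inferInstance⟩⟩

variable {k K}

/-- the rings of the system -/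
def ringFunctor : Sub k K ⥤ CommRingCat.{u} where
  obj L := CommRingCat.of L.1
  map h := CommRingCat.ofHom (IntermediateField.inclusion (leOfHom h)).toRingHom

/-- the cocone of the union -/
def ringCocone : Cocone (ringFunctor (k := k) (K := K)) where
  pt := CommRingCat.of K
  ι := { app := fun L => CommRingCat.ofHom L.1.val.toRingHom }

variable [Algebra.IsAlgebraic k K]

/-- the union is the colimit -/
def ringIsColimit : IsColimit (ringCocone (k := k) (K := K)) := by
  haveI : PreservesColimit (ringFunctor (k := k) (K := K)) (forget CommRingCat.{u}) :=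
    (inferInstance : PreservesFilteredColimits (forget CommRingCat.{u})).preserves_filtered_colimits _ |>.preservesColimit
  haveI : ReflectsColimit (ringFunctor (k := k) (K := K)) (forget CommRingCat.{u}) :=
    reflectsColimit_of_reflectsIsomorphisms _ _
  refine isColimitOfReflects (forget CommRingCat.{u}) (Types.FilteredColimit.isColimitOf _ _ ?_ ?_)
  · intro x
    exact ⟨⟨IntermediateField.adjoin k {(show K from x)},
      IntermediateField.adjoin.finiteDimensional (Algebra.IsIntegral.isIntegral (show K from x))⟩,
      ⟨(show K from x), IntermediateField.mem_adjoin_simple_self k _⟩, rfl⟩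
  · intro i j x y h
    obtain ⟨m, him, hjm⟩ := exists_ge_ge i j
    exact ⟨m, homOfLE him, homOfLE hjm, Subtype.ext h⟩

/-- the base changes to the finite subextensions -/
def diagram : (Sub k K)ᵒᵖ ⥤ Scheme.{u} where
  obj L := pullback f (sk k L.unop.1)
  map {L M} h := bcm f (IntermediateField.inclusion (leOfHom h.unop))
  map_id L := by
    apply pullback.hom_ext
    · rw [bcm_fst, Category.id_comp]
    · rw [bcm_snd, Category.id_comp]
      exact (congrArg (_ ≫ ·) (show skMap _ = 𝟙 _ from Spec.map_id _)).trans (Category.comp_id _)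
  map_comp {a b c} g h := by
    apply pullback.hom_ext
    · rw [bcm_fst, Category.assoc, bcm_fst, bcm_fst]
    · rw [bcm_snd, Category.assoc, bcm_snd, bcm_snd_assoc, ← Spec.map_comp]
      rfl

/-- their cone -/
def cone : Cone (diagram f (K := K)) where
  pt := pullback f (sk k K)
  π :=
    { app := fun L => bcm f L.unop.1.val
      naturality := fun L M h => by
        show 𝟙 _ ≫ bcm f _ = bcm f _ ≫ bcm f _
        apply pullback.hom_ext
        · rw [Category.id_comp, bcm_fst, Category.assoc, bcm_fst, bcm_fst]
        · rw [Category.id_comp, bcm_snd, Category.assoc, bcm_snd, bcm_snd_assoc, ← Spec.map_comp]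
          rfl }

/-- **base change to an algebraic extension is the limit over the finite subextensions** -/
def isLimitCone : IsLimit (cone f (K := K)) := by
  haveI : IsCofiltered (Sub k K)ᵒᵖ := isCofiltered_op_of_isFiltered _
  haveI : IsConnected (Sub k K)ᵒᵖ := IsCofiltered.isConnected _
  have hs : IsLimit (Scheme.Spec.mapCone (ringCocone (k := k) (K := K)).op) :=
    isLimitOfPreserves Scheme.Spec (ringIsColimit (k := k) (K := K)).op
  let L₀ : (Sub k K)ᵒᵖ := Opposite.op ⟨⊥, inferInstance⟩
  let sc : ∀ s : Cone (diagram f (K := K)), Cone ((ringFunctor (k := k) (K := K)).op ⋙ Scheme.Spec) := fun s =>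
    { pt := s.pt
      π :=
        { app := fun L => s.π.app L ≫ pullback.snd f (sk k L.unop.1)
          naturality := fun L M h => by
            refine (Category.id_comp _).trans ?_
            rw [← s.w h, Category.assoc]
            exact ((congrArg (s.π.app L ≫ ·) (bcm_snd f (IntermediateField.inclusion (leOfHom h.unop)))).trans
              (Category.assoc _ _ _).symm) } }
  have hfst : ∀ (s : Cone (diagram f (K := K))) (L : (Sub k K)ᵒᵖ),
      s.π.app L ≫ pullback.fst f (sk k L.unop.1) = s.π.app L₀ ≫ pullback.fst f (sk k L₀.unop.1) := by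
    intro s L
    have h : L ⟶ L₀ := (homOfLE (show L₀.unop.1 ≤ L.unop.1 from bot_le)).op
    rw [← s.w h, Category.assoc]
    exact (congrArg (s.π.app L ≫ ·) (bcm_fst f _)).symm
  have hsk : ∀ L : (Sub k K)ᵒᵖ, skMap L.unop.1.val ≫ sk k L.unop.1 = sk k K := fun L => skMap_sk _
  let l : ∀ s : Cone (diagram f (K := K)), s.pt ⟶ pullback f (sk k K) := fun s =>
    pullback.lift (s.π.app L₀ ≫ pullback.fst _ _) (hs.lift (sc s)) (by
      rw [← hsk L₀, ← Category.assoc (hs.lift (sc s))]
      refine Eq.trans ?_ (congrArg (· ≫ sk k L₀.unop.1) (hs.fac (sc s) L₀).symm)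
      show _ = (s.π.app L₀ ≫ pullback.snd _ _) ≫ _
      rw [Category.assoc, Category.assoc, pullback.condition])
  exact
    { lift := l
      fac := fun s L => by
        show l s ≫ bcm f _ = _
        apply pullback.hom_ext
        · rw [Category.assoc, bcm_fst, pullback.lift_fst, hfst s L]
        · rw [Category.assoc, bcm_snd, pullback.lift_snd_assoc]
          exact hs.fac (sc s) L
      uniq := fun s m hm => by
        apply pullback.hom_ext
        · rw [pullback.lift_fst, ← hm L₀]
          exact ((Category.assoc _ _ _).trans (congrArg (m ≫ ·) (bcm_fst f _))).symm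
        · rw [pullback.lift_snd]
          refine hs.hom_ext fun L => ?_
          refine Eq.trans ?_ (hs.fac (sc s) L).symm
          show _ = s.π.app L ≫ pullback.snd _ _
          rw [← hm L]
          exact (Category.assoc _ _ _).trans
            (((congrArg (m ≫ ·) (bcm_snd f L.unop.1.val)).symm).trans (Category.assoc _ _ _).symm) }

variable [CompactSpace X] [QuasiSeparatedSpace X]

omit [Algebra.IsAlgebraic k K] [CompactSpace X] [QuasiSeparatedSpace X] in
theorem isAffineHom_map {L M : (Sub k K)ᵒᵖ} (h : L ⟶ M) : IsAffineHom ((diagram f (K := K)).map h) :=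
  MorphismProperty.of_isPullback (P := @IsAffineHom) (isPullback_bcm f _).flip inferInstance

/-- **a finite étale cover over an algebraic extension comes from a finite subextension** -/
theorem exists_stage (V : FEt.Cat (pullback f (sk k K))) :
    ∃ (L : IntermediateField k K) (_ : FiniteDimensional k L) (VL : FEt.Cat (pullback f (sk k L))),
      Nonempty ((FEt.restrict (bcm f L.val)).obj VL ≅ V) := by
  haveI : IsCofiltered (Sub k K)ᵒᵖ := isCofiltered_op_of_isFiltered _
  haveI : ∀ L : (Sub k K)ᵒᵖ, CompactSpace ((diagram f (K := K)).obj L) := fun L =>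
    QuasiCompact.compactSpace_of_compactSpace (pullback.fst f (sk k L.unop.1))
  haveI : ∀ L : (Sub k K)ᵒᵖ, QuasiSeparatedSpace ((diagram f (K := K)).obj L) := fun L =>
    quasiSeparatedSpace_of_quasiSeparated (pullback.fst f (sk k L.unop.1))
  haveI : ∀ (i j : (Sub k K)ᵒᵖ) (h : i ⟶ j), IsAffineHom ((diagram f (K := K)).map h) := fun _ _ h =>
    isAffineHom_map f h
  obtain ⟨L, VL, hVL⟩ := FEtLim.exists_model (diagram f (K := K)) (cone f) (isLimitCone f) V
  exact ⟨L.unop.1, L.unop.2, VL, hVL⟩

/-- **a point of a finitely presented scheme over the base change comes from a finite subextension** -/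
theorem exists_stage_section {U : Scheme.{u}} (p : U ⟶ X) [LocallyOfFinitePresentation p]
    (σ : pullback f (sk k K) ⟶ U) (hσ : σ ≫ p = pullback.fst _ _) :
    ∃ (L : IntermediateField k K) (_ : FiniteDimensional k L) (σL : pullback f (sk k L) ⟶ U),
      bcm f L.val ≫ σL = σ ∧ σL ≫ p = pullback.fst _ _ := by
  haveI : IsCofiltered (Sub k K)ᵒᵖ := isCofiltered_op_of_isFiltered _
  haveI : ∀ L : (Sub k K)ᵒᵖ, CompactSpace ((diagram f (K := K)).obj L) := fun L =>
    QuasiCompact.compactSpace_of_compactSpace (pullback.fst f (sk k L.unop.1))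
  haveI : ∀ L : (Sub k K)ᵒᵖ, QuasiSeparatedSpace ((diagram f (K := K)).obj L) := fun L =>
    quasiSeparatedSpace_of_quasiSeparated (pullback.fst f (sk k L.unop.1))
  haveI : ∀ {i j : (Sub k K)ᵒᵖ} (h : i ⟶ j), IsAffineHom ((diagram f (K := K)).map h) := fun h =>
    isAffineHom_map f h
  let t : diagram f (K := K) ⟶ (Functor.const _).obj X :=
    { app := fun L => pullback.fst f (sk k L.unop.1)
      naturality := fun L M h => (bcm_fst f _).trans (Category.comp_id _).symm }
  obtain ⟨L, g, hg, hg'⟩ := Scheme.exists_π_app_comp_eq_of_locallyOfFinitePresentation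
    (D := diagram f (K := K)) (c := cone f) (isLimitCone f) (t := t) (f := p) σ (by
      ext L
      exact (bcm_fst f _).trans hσ.symm)
  exact ⟨L.unop.1, L.unop.2, g, hg, hg'⟩

omit [Algebra.IsAlgebraic k K] [CompactSpace X] [QuasiSeparatedSpace X] in
theorem prop_fst (L : IntermediateField k K) [FiniteDimensional k L] [Algebra.IsSeparable k L] :
    FEt.prop (pullback.fst f (sk k L)) :=
  MorphismProperty.pullback_fst _ _ (show FEt.prop (sk k L) from
    ⟨(IsFinite.SpecMap_iff _).2 (RingHom.finite_algebraMap.2 inferInstance),
      (HasRingHomProperty.Spec_iff (P := @Etale)).2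
        (RingHom.etale_algebraMap.2 (by
          haveI : Algebra.FormallyEtale k L := Algebra.FormallyEtale.of_isSeparable k L
          haveI : Algebra.FinitePresentation k L := Algebra.FinitePresentation.of_finiteType.1 inferInstance
          exact { }))⟩)

end Groth.Agent.FieldFEt
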